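import Mathlib
import Cfsg.Agent.Lib.BrauerMap.Basic

/-!
# Summands of permutation modules of least dimension

`E` is an idempotent matrix on a set `X` commuting with a `p`-group `S`.  If `R` is maximal among
the subgroups fixing two points `x, y` with `E x y ≠ 0` and the index of `R` equals the rank of
`E`, the image of `E` is the permutation module on the cosets of `R`; so each subgroup fixing such
points fixes a coset of `R` (`exists_fixed_coset_of_rank`).
-/

set_option autoImplicit false

namespace Cfsg.Agent.Lib.MinSquare.PermSummand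

universe u v w

open MulAction

section fixedVector

/-- A fixed vector of a p-group in characteristic p. -/
theorem exists_fixed_vector {K : Type w} [Field K] {p : ℕ} [Fact p.Prime] (hp0 : (p : K) = 0)
    {P : Type u} [Group P] [Finite P] (hP : IsPGroup p P) {V : Type v} [AddCommGroup V]
    [Module K V] (ρ : P →* Module.End K V) {W : Submodule K V} (hW : W ≠ ⊥)
    (hinv : ∀ g, ∀ w ∈ W, ρ g w ∈ W) : ∃ x ∈ W, x ≠ 0 ∧ ∀ g, ρ g x = x := by
  obtain ⟨v₀, hv₀W, hv₀⟩ := (Submodule.ne_bot_iff W).mp hW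
  let A := AddSubgroup.closure (Set.range fun g => ρ g v₀)
  have hAW : A ≤ W.toAddSubgroup := (AddSubgroup.closure_le _).mpr (by
    rintro _ ⟨g, rfl⟩; exact hinv g v₀ hv₀W)
  have hA : ∀ (g : P), ∀ a ∈ A, ρ g a ∈ A := by
    intro g a ha
    induction ha using AddSubgroup.closure_induction with
    | mem x hx =>
      obtain ⟨h, rfl⟩ := hx
      exact AddSubgroup.subset_closure ⟨g * h, by simp⟩
    | zero => simp
    | add x y _ _ hx hy => rw [map_add]; exact A.add_mem hx hy
    | neg x _ hx => rw [map_neg]; exact A.neg_mem hx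
  let : MulAction P A :=
    { smul := fun g a => ⟨ρ g a, hA g a a.2⟩
      one_smul := fun a => Subtype.ext (by show ρ 1 (a : V) = a; simp)
      mul_smul := fun g h a => Subtype.ext (by
        show ρ (g * h) (a : V) = ρ g (ρ h a); simp) }
  have : AddGroup.FG A :=
    (AddGroup.fg_iff_addSubgroup_fg A).2 ((AddSubgroup.fg_iff A).2 ⟨_, rfl, Set.finite_range _⟩)
  have hpA : ∀ a : A, p • a = 0 := fun a => Subtype.ext (by
    show p • (a : V) = 0
    rw [← Nat.cast_smul_eq_nsmul K, hp0, zero_smul])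
  have : Finite A := AddCommGroup.finite_of_fg_isAddTorsion A fun a =>
    isOfFinAddOrder_iff_nsmul_eq_zero.2 ⟨p, Nat.Prime.pos Fact.out, hpA a⟩
  have hv : v₀ ∈ A := AddSubgroup.subset_closure ⟨1, by simp⟩
  have hcard : p ∣ Nat.card A := by
    have h1 : addOrderOf (⟨v₀, hv⟩ : A) = p :=
      addOrderOf_eq_prime (hpA _) (fun e => hv₀ (congrArg Subtype.val e))
    exact h1 ▸ addOrderOf_dvd_natCard _
  obtain ⟨b, hb, hb0⟩ := hP.exists_fixed_point_of_prime_dvd_card_of_fixed_point A hcard
    (a := (0 : A)) (fun g => Subtype.ext (by show ρ g 0 = 0; simp))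
  exact ⟨b, hAW b.2, fun e => hb0 (Subtype.ext e.symm), fun g => congrArg Subtype.val (hb g)⟩

/-- The action on functions. -/
def funRep (K : Type w) [Field K] (S : Type u) [Group S] (Y : Type v) [MulAction S Y] :
    S →* Module.End K (Y → K) where
  toFun s := LinearMap.funLeft K K (fun y => s⁻¹ • y)
  map_one' := LinearMap.ext fun f => funext fun y => by simp [LinearMap.funLeft_apply]
  map_mul' s t := LinearMap.ext fun f => funext fun y => by
    simp [LinearMap.funLeft_apply, mul_smul]

theorem funRep_apply {K : Type w} [Field K] {S : Type u} [Group S] {Y : Type v} [MulAction S Y]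
    (s : S) (f : Y → K) (y : Y) : funRep K S Y s f y = f (s⁻¹ • y) := rfl

end fixedVector

variable {S : Type u} [Group S] {X : Type v} [MulAction S X] {k : Type w} [Field k]

/-- An idempotent matrix commuting with the action. -/
structure IsProj (S : Type u) [Group S] {X : Type v} [MulAction S X] [Fintype X] {k : Type w}
    [Field k] (E : X → X → k) : Prop where
  inv : ∀ (s : S) (x y : X), E (s • x) (s • y) = E x y
  idem : ∀ x y : X, ∑ z, E x z * E z y = E x y

/-- The Brauer quotient at `R` of the image of `E` is not zero. -/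
def Nz (E : X → X → k) (R : Subgroup S) : Prop :=
  ∃ x y : X, (∀ r ∈ R, r • x = x) ∧ (∀ r ∈ R, r • y = y) ∧ E x y ≠ 0

variable [Fintype X] {p : ℕ} [Fact p.Prime] [CharP k p]

open scoped Classical in
/-- Only the fixed points count in a sum invariant under a subgroup. -/
theorem sum_eq_fixed [Finite S] (hS : IsPGroup p S) (R : Subgroup S) {Y : Type*} [Fintype Y]
    [MulAction S Y] (f : Y → k) (hf : ∀ r ∈ R, ∀ y, f (r • y) = f y) :
    ∑ y, f y = ∑ y ∈ Finset.univ.filter (fun y : Y => ∀ r ∈ R, r • y = y), f y := by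
  rw [BrauerMap.Basic.sum_eq_sum_fixed (hS.to_subgroup R) f fun r y => hf r r.2 y]
  refine Finset.sum_congr ?_ fun _ _ => rfl
  ext y
  simp only [Finset.mem_filter, Finset.mem_univ, true_and, mem_fixedPoints]
  exact ⟨fun h r hr => h ⟨r, hr⟩, fun h r => h r r.2⟩

omit [Fintype X] in
theorem out_smul {R : Subgroup S} {y : X} (hy : ∀ r ∈ R, r • y = y) (s : S) :
    (QuotientGroup.mk s : S ⧸ R).out • y = s • y := by
  obtain ⟨r, hr⟩ := QuotientGroup.mk_out_eq_mul R s
  rw [hr, mul_smul, hy r r.2]

omit [Fintype X] in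
theorem out_smul_smul {R : Subgroup S} {y : X} (hy : ∀ r ∈ R, r • y = y) (s : S) (q : S ⧸ R) :
    (s • q).out • y = s • q.out • y := by
  induction q using QuotientGroup.induction_on with
  | _ a => rw [MulAction.Quotient.smul_mk, smul_eq_mul, out_smul hy, out_smul hy, mul_smul]

open scoped Classical in
/-- Some trace from `R` to `S` is not zero. -/
theorem exists_trace_ne_zero [Finite S] (hS : IsPGroup p S) {E : X → X → k} (hE : IsProj S E)
    {R : Subgroup S} [Fintype (S ⧸ R)] (hR : Nz E R)
    (hmax : ∀ R' : Subgroup S, R ≤ R' → Nz E R' → R' = R) :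
    ∃ x y : X, (∀ r ∈ R, r • x = x) ∧ (∀ r ∈ R, r • y = y) ∧
      ∑ q : S ⧸ R, E x (q.out • y) ≠ 0 := by
  by_contra hcon
  push Not at hcon
  let Fx : X → Prop := fun x => ∀ r ∈ R, r • x = x
  let N : Subgroup S := Subgroup.normalizer (R : Set S)
  have hFN : ∀ n : N, ∀ x, Fx x → Fx ((n : S) • x) := by
    intro n x hx r hr
    have h := hx _ ((Subgroup.mem_normalizer_iff''.mp n.2 r).mp hr)
    rwa [mul_smul, mul_smul, inv_smul_eq_iff] at h
  have hFN' : ∀ n : N, ∀ x, Fx ((n : S) • x) ↔ Fx x := fun n x =>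
    ⟨fun h => by simpa using hFN n⁻¹ _ h, hFN n x⟩
  -- the Brauer quotient
  let T : (X → k) →ₗ[k] (X → k) :=
    { toFun := fun f x => if Fx x then ∑ y, (if Fx y then E x y * f y else 0) else 0
      map_add' := fun f g => funext fun x => by
        by_cases h : Fx x <;> simp [h, mul_add, ite_add_ite, ← Finset.sum_add_distrib]
      map_smul' := fun c f => funext fun x => by
        by_cases h : Fx x <;> simp [h, Finset.mul_sum, mul_left_comm] }
  have hT : ∀ f x, T f x = if Fx x then ∑ y, (if Fx y then E x y * f y else 0) else 0 :=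
    fun _ _ => rfl
  have hidem : ∀ f, T (T f) = T f := by
    intro f
    funext x
    rw [hT, hT f x]
    by_cases hx : Fx x
    swap
    · simp only [if_neg hx]
    simp only [if_pos hx]
    calc ∑ z, (if Fx z then E x z * T f z else 0)
        = ∑ z, ∑ y, (if Fx z then (if Fx y then E x z * E z y * f y else 0) else 0) := by
          refine Finset.sum_congr rfl fun z _ => ?_
          by_cases hz : Fx z
          · simp only [if_pos hz, hT f z, Finset.mul_sum, mul_ite, mul_zero, mul_assoc]
          · simp [if_neg hz]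
      _ = ∑ y, (if Fx y then E x y * f y else 0) := by
          rw [Finset.sum_comm]
          refine Finset.sum_congr rfl fun y _ => ?_
          by_cases hy : Fx y
          · simp only [if_pos hy]
            rw [← hE.idem x y, sum_eq_fixed hS R (fun z => E x z * E z y) (fun r hr z => by
              conv_lhs => rw [← hE.inv r⁻¹ x, ← hE.inv r⁻¹ (r • z)]
              rw [inv_smul_smul, hx _ (inv_mem hr), hy _ (inv_mem hr)])]
            rw [Finset.sum_mul, Finset.sum_filter]
          · simp [if_neg hy]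
  have hW : LinearMap.range T ≠ ⊥ := by
    obtain ⟨x, y, hx, hy, hxy⟩ := hR
    intro h
    apply hxy
    have h' := congrFun ((Submodule.eq_bot_iff _).mp h _ ⟨Pi.single y 1, rfl⟩) x
    rw [hT, if_pos hx, Finset.sum_eq_single y (fun z _ hz => by simp [hz])
      (fun h => absurd (Finset.mem_univ _) h), if_pos hy] at h'
    simpa using h'
  obtain ⟨m, ⟨f₀, hf₀⟩, hm0, hmN⟩ := exists_fixed_vector (CharP.cast_eq_zero k p)
    (hS.to_subgroup N) ((funRep k S X).comp N.subtype) hW (by
      rintro n _ ⟨f, rfl⟩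
      refine ⟨funRep k S X n f, funext fun x => ?_⟩
      show T (funRep k S X n f) x = T f ((n : S)⁻¹ • x)
      rw [hT, hT]
      refine if_congr (by simpa using (hFN' n⁻¹ x).symm) ?_ rfl
      refine (Fintype.sum_equiv (MulAction.toPerm (n : S)) _ _ fun y => ?_).symm
      simp only [MulAction.toPerm_apply, funRep_apply, inv_smul_smul]
      refine if_congr (hFN' n y).symm ?_ rfl
      conv_rhs => rw [← hE.inv (n : S)⁻¹, inv_smul_smul])
  have hmT : T m = m := by rw [← hf₀, hidem]
  have hmN' : ∀ n ∈ N, ∀ x, m (n • x) = m x := fun n hn x => by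
    have h := congrFun (hmN ⟨n, hn⟩⁻¹) x
    simpa [funRep_apply] using h
  have hsupp : ∀ x, ¬ Fx x → m x = 0 := fun x hx => by rw [← hmT, hT, if_neg hx]
  have hmx : ∀ x, Fx x → m x = ∑ y, E x y * m y := by
    intro x hx
    conv_lhs => rw [← hmT, hT, if_pos hx]
    refine Finset.sum_congr rfl fun y _ => ?_
    by_cases hy : Fx y
    · rw [if_pos hy]
    · rw [if_neg hy, hsupp y hy, mul_zero]
  -- `m` lives on the points with stabiliser `R` in `N`
  have hfree : ∀ x, m x ≠ 0 → ∀ n ∈ N, n • x = x → n ∈ R := by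
    intro x hx n hn hnx
    have hFx : Fx x := not_not.mp fun h => hx (hsupp x h)
    let R' : Subgroup S := N ⊓ MulAction.stabilizer S x
    by_contra hnR
    have hne : ¬ Nz E R' := fun h => hnR ((hmax R'
      (le_inf Subgroup.le_normalizer fun r hr => hFx r hr) h) ▸ (⟨hn, hnx⟩ : n ∈ R'))
    apply hx
    rw [hmx x hFx, sum_eq_fixed hS R' (fun y => E x y * m y) (fun r hr y => by
      conv_lhs => rw [← hE.inv r⁻¹ x, inv_smul_smul, hmN' r hr.1]
      rw [show r⁻¹ • x = x from inv_smul_eq_iff.mpr hr.2.symm])]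
    refine Finset.sum_eq_zero fun y hy => ?_
    have hz : E x y = 0 := not_not.mp fun h => hne ⟨x, y, fun r hr => hr.2,
      (Finset.mem_filter.mp hy).2, h⟩
    rw [hz, zero_mul]
  obtain ⟨x₁, hx₁⟩ := Function.ne_iff.mp hm0
  have hFx₁ : Fx x₁ := not_not.mp fun h => hx₁ (hsupp x₁ h)
  apply hx₁
  rw [hmx x₁ hFx₁, Pi.zero_apply,
    ← Finset.sum_fiberwise_of_maps_to (g := fun y => MulAction.orbit N y)
      (t := Finset.univ.image fun y : X => MulAction.orbit N y)
      (fun y _ => Finset.mem_image_of_mem _ (Finset.mem_univ y))]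
  refine Finset.sum_eq_zero fun O hO => ?_
  obtain ⟨y₀, -, rfl⟩ := Finset.mem_image.mp hO
  have hsame : ∀ y, MulAction.orbit N y = MulAction.orbit N y₀ → m y = m y₀ := by
    intro y hy
    obtain ⟨n, rfl⟩ := MulAction.orbit_eq_iff.mp hy
    exact hmN' n n.2 y₀
  by_cases hy₀ : m y₀ = 0
  · exact Finset.sum_eq_zero fun y hy => by
      rw [hsame y (Finset.mem_filter.mp hy).2, hy₀, mul_zero]
  have hFy₀ : Fx y₀ := not_not.mp fun h => hy₀ (hsupp y₀ h)
  rw [Finset.sum_congr rfl fun y hy => by rw [hsame y (Finset.mem_filter.mp hy).2],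
    ← Finset.sum_mul]
  refine mul_eq_zero_of_left ?_ _
  refine Eq.trans (Eq.symm ?_) (hcon x₁ y₀ hFx₁ hFy₀)
  rw [sum_eq_fixed hS R (fun q : S ⧸ R => E x₁ (q.out • y₀)) (fun r hr q => by
    show E x₁ ((r • q).out • y₀) = _
    rw [out_smul_smul hFy₀]
    conv_lhs => rw [← hE.inv r⁻¹, inv_smul_smul, hFx₁ _ (inv_mem hr)])]
  have hqN : ∀ q : S ⧸ R, (∀ r ∈ R, r • q = q) ↔ q.out ∈ N := by
    intro q
    rw [← Sylow.mem_fixedPoints_mul_left_cosets_iff_mem_normalizer, mem_fixedPoints,
      QuotientGroup.out_eq']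
    exact ⟨fun h r => h r r.2, fun h r hr => h ⟨r, hr⟩⟩
  refine Finset.sum_bij (fun q _ => q.out • y₀) (fun q hq => ?_) (fun q hq q' hq' h => ?_)
    (fun y hy => ?_) (fun q _ => rfl)
  · refine Finset.mem_filter.mpr ⟨Finset.mem_univ _, MulAction.orbit_eq_iff.mpr ?_⟩
    exact ⟨⟨q.out, (hqN q).mp (Finset.mem_filter.mp hq).2⟩, rfl⟩
  · have h1 := (hqN q).mp (Finset.mem_filter.mp hq).2
    have h2 := (hqN q').mp (Finset.mem_filter.mp hq').2
    rw [← QuotientGroup.out_eq' q, ← QuotientGroup.out_eq' q', QuotientGroup.eq]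
    exact hfree y₀ hy₀ _ (mul_mem (inv_mem h1) h2) (by rw [mul_smul, ← h, inv_smul_smul])
  · obtain ⟨n, rfl⟩ := MulAction.orbit_eq_iff.mp (Finset.mem_filter.mp hy).2
    refine ⟨QuotientGroup.mk (n : S), Finset.mem_filter.mpr ⟨Finset.mem_univ _,
      (hqN _).mpr ?_⟩, out_smul hFy₀ _⟩
    obtain ⟨r, hr⟩ := QuotientGroup.mk_out_eq_mul R (n : S)
    rw [hr]
    exact mul_mem n.2 (Subgroup.le_normalizer r.2)

/-- If the rank is the index, a subgroup with non-zero Brauer quotient fixes a coset. -/
theorem exists_fixed_coset_of_rank [Finite S] (hS : IsPGroup p S) {E : X → X → k}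
    (hE : IsProj S E) {R : Subgroup S} (hR : Nz E R)
    (hmax : ∀ R' : Subgroup S, R ≤ R' → Nz E R' → R' = R) {M : Submodule k (X → k)}
    (hM : ∀ y, (fun x => E x y) ∈ M) (hdim : Module.finrank k M = R.index) {Q : Subgroup S}
    (hQ : Nz E Q) : ∃ s : S, ∀ r ∈ Q, s⁻¹ * r * s ∈ R := by
  classical
  let := Fintype.ofFinite (S ⧸ R)
  obtain ⟨x₀, y₀, hx₀, hy₀, hne⟩ := exists_trace_ne_zero hS hE hR hmax
  let col : S ⧸ R → M := fun q => ⟨fun x => E x (q.out • y₀), hM _⟩
  let Φ : (S ⧸ R → k) →ₗ[k] (X → k) :=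
    { toFun := fun c x => ∑ q, c q * E x (q.out • y₀)
      map_add' := fun c d => funext fun x => by simp [add_mul, Finset.sum_add_distrib]
      map_smul' := fun a c => funext fun x => by simp [Finset.mul_sum, mul_assoc] }
  have hΦ : ∀ c x, Φ c x = ∑ q, c q * E x (q.out • y₀) := fun _ _ => rfl
  have hequiv : ∀ (s : S) c x, Φ (funRep k S (S ⧸ R) s c) x = Φ c (s⁻¹ • x) := by
    intro s c x
    rw [hΦ, hΦ]
    refine (Fintype.sum_equiv (MulAction.toPerm s) _ _ fun q => ?_).symm
    simp only [MulAction.toPerm_apply, funRep_apply, inv_smul_smul, out_smul_smul hy₀]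
    conv_rhs => rw [← hE.inv s⁻¹, inv_smul_smul]
  have hker : LinearMap.ker Φ = ⊥ := by
    by_contra hker
    obtain ⟨c, hc, hc0, hcS⟩ := exists_fixed_vector (CharP.cast_eq_zero k p) hS
      (funRep k S (S ⧸ R)) hker (fun s c hc => by
        rw [LinearMap.mem_ker] at hc ⊢
        funext x
        rw [hequiv, hc]
        rfl)
    have hconst : ∀ q, c q = c ((1 : S) : S ⧸ R) := by
      intro q
      induction q using QuotientGroup.induction_on with
      | _ a =>
        have h := congrFun (hcS a) (a : S ⧸ R)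
        rw [funRep_apply, MulAction.Quotient.smul_mk, smul_eq_mul, inv_mul_cancel] at h
        exact h.symm
    have h0 := congrFun (LinearMap.mem_ker.mp hc) x₀
    rw [hΦ, Finset.sum_congr rfl fun q _ => by rw [hconst q], ← Finset.mul_sum,
      Pi.zero_apply] at h0
    exact hc0 (funext fun q => by
      rw [hconst q, (mul_eq_zero.mp h0).resolve_right hne]; rfl)
  have hrange : LinearMap.range Φ = M := by
    refine Submodule.eq_of_le_of_finrank_eq ?_ ?_
    · rintro _ ⟨c, rfl⟩
      have : Φ c = ((∑ q, c q • col q : M) : X → k) := by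
        funext x
        simp [hΦ, col, Finset.sum_apply]
      rw [this]
      exact Submodule.coe_mem _
    · rw [LinearMap.finrank_range_of_inj (LinearMap.ker_eq_bot.mp hker),
        Module.finrank_fintype_fun_eq_card, hdim, Subgroup.index, Nat.card_eq_fintype_card]
  obtain ⟨x, y, hx, hy, hxy⟩ := hQ
  obtain ⟨c, hc⟩ := (hrange ▸ hM y : (fun x => E x y) ∈ LinearMap.range Φ)
  have hcQ : ∀ r ∈ Q, funRep k S (S ⧸ R) r c = c := fun r hr =>
    LinearMap.ker_eq_bot.mp hker (funext fun z => by
      rw [hequiv, hc]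
      show E (r⁻¹ • z) y = E z y
      conv_lhs => rw [← hE.inv r, smul_inv_smul, hy r hr])
  by_contra hcon
  push Not at hcon
  apply hxy
  have hval := (congrFun hc x).symm
  rw [hΦ, sum_eq_fixed hS Q (fun q => c q * E x (q.out • y₀)) (fun r hr q => by
    show c (r • q) * E x ((r • q).out • y₀) = _
    rw [out_smul_smul hy₀]
    conv_lhs => rw [← hE.inv r⁻¹ x, inv_smul_smul, hx _ (inv_mem hr)]
    congr 1
    have h := congrFun (hcQ r hr) (r • q)
    rw [funRep_apply, inv_smul_smul] at h
    exact h.symm), Finset.sum_eq_zero] at hval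
  · exact hval
  intro q hq
  obtain ⟨r, hr, hrn⟩ := hcon q.out
  exfalso
  apply hrn
  have h := (Finset.mem_filter.mp hq).2 r hr
  rw [← QuotientGroup.out_eq' q, MulAction.Quotient.smul_mk, smul_eq_mul, QuotientGroup.eq] at h
  have h' := inv_mem h
  simpa [mul_assoc] using h'

end Cfsg.Agent.Lib.MinSquare.PermSummand
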