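import Cfsg.Agent.Lib.MinSquare.PermSummand
import Cfsg.Agent.Lib.BrauerPairs.Maximal
import Cfsg.Agent.Lib.BrauerPairs.CornerAlgebra

/-!
# Blocks of least possible dimension control fusion by p-groups

If `dim kGb = |P|² / |D|` for a Sylow subgroup `P` and a defect group `D` of the block `b`, then
`kGb` is a transitive permutation module for `P × P`; hence for every `p`-subgroup `Q` with
`br_Q b ≠ 0` the automisers of `Q` are `p`-groups (`centralizes_of_dim`).
-/

set_option autoImplicit false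
set_option linter.style.haveILetI false

namespace Cfsg.Agent.Lib.MinSquare.Main

open MonoidAlgebra
open Cfsg.Agent.Lib.BrauerMap.Basic
open Cfsg.Agent.Lib.BrauerPairs.Center Cfsg.Agent.Lib.BrauerPairs.Maximal
open Cfsg.Agent.Lib.BrauerPairs.CornerAlgebra
open Cfsg.Agent.Lib.MinSquare.PermSummand

universe u v

variable {G : Type u} [Group G] [Fintype G] {k : Type v} [Field k] [IsAlgClosed k]
  {p : ℕ} [Fact p.Prime] [CharP k p]

/-- The matrix of multiplication by a central element. -/
def mat (b : MonoidAlgebra k G) : G → G → k := fun x y => b.coeff (x * y⁻¹)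

omit [IsAlgClosed k] [Fact p.Prime] [CharP k p] in
/-- The span of the columns has the dimension of the ideal generated by the idempotent. -/
theorem finrank_columns {b : MonoidAlgebra k G} (hidem : b * b = b) :
    ∃ M : Submodule k (G → k), (∀ y, (fun x => mat b x y) ∈ M) ∧
      Module.finrank k M = Module.finrank k (leftFix k b) := by
  classical
  let e : MonoidAlgebra k G ≃ₗ[k] (G → k) :=
    (MonoidAlgebra.coeffLinearEquiv k).trans (Finsupp.linearEquivFunOnFinite k k G)
  refine ⟨(leftFix k b).map e.toLinearMap, fun y => ⟨b * single y 1, ?_, ?_⟩,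
    LinearEquiv.finrank_map_eq _ _⟩
  · exact mem_leftFix.mpr (by rw [← mul_assoc, hidem])
  · funext x
    show (b * single y 1).coeff x = b.coeff (x * y⁻¹)
    rw [coeff_mul_single_apply, mul_one]

/-- The automiser of a subgroup in the Brauer support of the block is a `p`-group. -/
theorem centralizes_of_dim (ψ : Blk k G) {D : Subgroup G} (hD : IsDef p ψ D) {d : ℕ}
    (hd : Nat.card D = p ^ d) {a : ℕ} (ha : (Nat.card G).factorization p = a)
    (hdim : Module.finrank k (leftFix k (bidem ψ)) = p ^ (2 * a - d))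
    {Q : Subgroup G} (hQ : IsPGroup p Q) {c : G} (hc : c ∈ Subgroup.centralizer (Q : Set G))
    (hcb : (bidem ψ).coeff c ≠ 0) {g : G} (hg : g ∈ Subgroup.normalizer (Q : Set G))
    (hreg : ¬ p ∣ orderOf g) : g ∈ Subgroup.centralizer (Q : Set G) := by
  classical
  set b := bidem ψ with hb
  have hclass : ∀ u g : G, b.coeff (u * g * u⁻¹) = b.coeff g :=
    (mem_center_iff_coeff b).mp (bidem_mem ψ)
  obtain ⟨P, hQP⟩ := hQ.exists_le_sylow
  -- a defect group inside `P`
  obtain ⟨P', hP'⟩ := hD.isPGroup.exists_le_sylow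
  obtain ⟨h, hh⟩ := MulAction.exists_smul_eq G P' P
  let D' : Subgroup G := D.map (MulAut.conj h).toMonoidHom
  have hD' : IsDef p ψ D' := hD.map_conj h
  have hD'P : D' ≤ P := by
    rw [← hh]
    intro z hz
    obtain ⟨w, hw, rfl⟩ := hz
    exact ⟨w, hP' hw, rfl⟩
  have hD'card : Nat.card D' = p ^ d :=
    (Subgroup.card_map_of_injective (MulAut.conj h).injective).trans hd
  let S : Subgroup (G × G) := (P : Subgroup G).prod P
  letI : MulAction S G :=
    { smul := fun s x => (s : G × G).1 * x * (s : G × G).2⁻¹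
      one_smul := fun x => by show (1 : G) * x * (1 : G)⁻¹ = x; group
      mul_smul := fun s t x => by
        show ((s : G × G).1 * (t : G × G).1) * x * ((s : G × G).2 * (t : G × G).2)⁻¹ = _
        show _ = (s : G × G).1 * ((t : G × G).1 * x * (t : G × G).2⁻¹) * (s : G × G).2⁻¹
        group }
  have hsmul : ∀ (s : S) (x : G), s • x = (s : G × G).1 * x * (s : G × G).2⁻¹ := fun _ _ => rfl
  obtain ⟨m, hm⟩ := (IsPGroup.iff_card).mp P.isPGroup'
  have hPa : Nat.card P = p ^ a := by rw [P.card_eq_multiplicity, ha]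
  have hScard : Nat.card S = p ^ (2 * a) := by
    rw [Nat.card_congr (Subgroup.prodEquiv _ _).toEquiv, Nat.card_prod, hPa, two_mul, pow_add]
  have hS : IsPGroup p S := IsPGroup.of_card hScard
  have hE : IsProj S (mat b) := by
    refine ⟨fun s x y => ?_, fun x y => ?_⟩
    · rw [mat, mat, hsmul, hsmul,
        show (s : G × G).1 * x * (s : G × G).2⁻¹ * ((s : G × G).1 * y * (s : G × G).2⁻¹)⁻¹ =
          (s : G × G).1 * (x * y⁻¹) * (s : G × G).1⁻¹ by group, hclass]
    · have h := congrArg (fun z : MonoidAlgebra k G => z.coeff (x * y⁻¹)) (bidem_isIdem ψ).eq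
      simp only [← hb, coeff_mul_sum] at h
      refine Eq.trans ?_ h
      refine Fintype.sum_equiv ((Equiv.inv G).trans (Equiv.mulLeft x)) _ _ fun z => ?_
      simp [mat, mul_assoc]
  -- the twisted diagonal of `Q`
  have hdiag : ∀ (A : Subgroup G) (u : G), A ≤ P → A.map (MulAut.conj u).toMonoidHom ≤ P →
      ∃ R : Subgroup S, (∀ r : S, r ∈ R ↔
        (r : G × G).2 ∈ A ∧ (r : G × G).1 = u * (r : G × G).2 * u⁻¹) ∧
        Nat.card R = Nat.card A := by
    intro A u hA hA'
    let f : A →* S :=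
      { toFun := fun q => ⟨(u * q * u⁻¹, q), hA' ⟨q, q.2, rfl⟩, hA q.2⟩
        map_one' := Subtype.ext (Prod.ext (by simp) rfl)
        map_mul' := fun q q' => Subtype.ext (Prod.ext (by simp [mul_assoc]) rfl) }
    have hf : Function.Injective f := fun q q' h =>
      Subtype.ext (congrArg (fun r : S => (r : G × G).2) h)
    refine ⟨f.range, fun r => ⟨?_, fun hr => ⟨⟨_, hr.1⟩, ?_⟩⟩, ?_⟩
    · rintro ⟨q, rfl⟩
      exact ⟨q.2, rfl⟩
    · exact Subtype.ext (Prod.ext hr.2.symm rfl)
    · exact Nat.card_congr (MonoidHom.ofInjective hf).symm.toEquiv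
  have hnz : ∀ (A : Subgroup G) (u v : G) (R : Subgroup S), (∀ r : S, r ∈ R →
      (r : G × G).2 ∈ A ∧ (r : G × G).1 = u * (r : G × G).2 * u⁻¹) →
      v ∈ Subgroup.centralizer (A : Set G) → b.coeff v ≠ 0 → Nz (mat b) R := by
    intro A u v R hR hv hbv
    refine ⟨u * v, u, fun r hr => ?_, fun r hr => ?_, ?_⟩
    · obtain ⟨h1, h2⟩ := hR r hr
      rw [hsmul, h2,
        show u * (r : G × G).2 * u⁻¹ * (u * v) * (r : G × G).2⁻¹ =
          u * ((r : G × G).2 * v) * (r : G × G).2⁻¹ by group, hv _ h1]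
      group
    · obtain ⟨h1, h2⟩ := hR r hr
      rw [hsmul, h2]
      group
    · rw [mat, hclass]
      exact hbv
  -- the diagonal of `D'`
  obtain ⟨RD, hRD, hRDcard⟩ := hdiag D' 1 hD'P (by
    rintro z ⟨w, hw, rfl⟩
    simpa using hD'P hw)
  have hRDnz : Nz (mat b) RD := by
    obtain ⟨g₀, hg₀, -, Pg, hPg⟩ := hD'
    refine hnz D' 1 g₀ RD (fun r hr => (hRD r).mp hr) ?_ hg₀
    refine mem_centralizer_of_le ?_
    rw [hPg]
    exact Subgroup.map_subtype_le _
  have hmax : ∀ R : Subgroup S, RD ≤ R → Nz (mat b) R → R = RD := by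
    intro R hle ⟨x, y, hx, hy, hxy⟩
    let f : R →* G := (MonoidHom.fst G G).comp (S.subtype.comp R.subtype)
    have hinj : Function.Injective f := by
      intro r r' h
      have h1 := hy r r.2
      have h2 := hy r' r'.2
      rw [hsmul] at h1 h2
      have h' : ((r : S) : G × G).1 = ((r' : S) : G × G).1 := h
      rw [← h'] at h2
      exact Subtype.ext (Subtype.ext (Prod.ext h' (inv_injective
        (mul_left_cancel (h1.trans h2.symm)))))
    have hfp : IsPGroup p f.range := by
      refine (P.isPGroup').to_le ?_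
      rintro _ ⟨r, rfl⟩
      exact (r : S).2.1
    have hxyc : x * y⁻¹ ∈ Subgroup.centralizer (f.range : Set G) := by
      rintro _ ⟨r, rfl⟩
      have h1 := hx r r.2
      have h2 := hy r r.2
      rw [hsmul] at h1 h2
      show ((r : S) : G × G).1 * (x * y⁻¹) = x * y⁻¹ * ((r : S) : G × G).1
      conv_rhs => rw [← h1, ← h2]
      group
    obtain ⟨ω, hω⟩ := exists_pairOf hfp hxyc hxy
    obtain ⟨z, hz⟩ := exists_map_le_isDef hω hD'
    refine (Subgroup.eq_of_le_of_card_ge hle ?_).symm
    rw [hRDcard, ← Nat.card_congr (MonoidHom.ofInjective hinj).symm.toEquiv,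
      ← Subgroup.card_map_of_injective (K := f.range) (f := (MulAut.conj z).toMonoidHom)
        (MulAut.conj z).injective]
    exact Subgroup.card_le_of_le hz
  have hda : d ≤ a := by
    have := Subgroup.card_le_of_le hD'P
    rw [hD'card, hPa] at this
    exact (Nat.pow_le_pow_iff_right (Fact.out : p.Prime).one_lt).mp this
  have hindex : Module.finrank k (leftFix k b) = RD.index := by
    have h := RD.card_mul_index
    rw [hRDcard, hD'card, hScard, ← Nat.sub_add_cancel (show d ≤ 2 * a by omega), pow_add,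
      mul_comm _ (p ^ d)] at h
    rw [hdim, Nat.eq_of_mul_eq_mul_left (pow_pos (Fact.out : p.Prime).pos d) h]
  obtain ⟨M, hM, hMdim⟩ := finrank_columns (bidem_isIdem ψ).eq
  -- the fusion
  have hgQ : Q.map (MulAut.conj g).toMonoidHom ≤ P := by
    rintro z ⟨w, hw, rfl⟩
    exact hQP ((Subgroup.mem_normalizer_iff.mp hg w).mp hw)
  obtain ⟨RQ, hRQ, -⟩ := hdiag Q g hQP hgQ
  obtain ⟨s, hs⟩ := exists_fixed_coset_of_rank hS hE hRDnz hmax hM (hMdim.trans hindex)
    (hnz Q g c RQ (fun r hr => (hRQ r).mp hr) hc hcb)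
  set y : G := (s : G × G).1 * (s : G × G).2⁻¹ with hy
  have hyP : y ∈ P := mul_mem s.2.1 (inv_mem s.2.2)
  have hconj : ∀ q ∈ Q, y * q * y⁻¹ = g * q * g⁻¹ := by
    intro q hq
    have hgq : g * q * g⁻¹ ∈ P := hgQ ⟨q, hq, rfl⟩
    let r : S := ⟨(g * q * g⁻¹, q), hgq, hQP hq⟩
    have h1 := ((hRD _).mp (hs r ((hRQ r).mpr ⟨hq, rfl⟩))).2
    simp only [one_mul, inv_one, mul_one, Subgroup.coe_mul, Subgroup.coe_inv, Prod.fst_mul,
      Prod.snd_mul, Prod.fst_inv, Prod.snd_inv] at h1
    have h2 : (s : G × G).1⁻¹ * (g * q * g⁻¹) * (s : G × G).1 =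
        (s : G × G).2⁻¹ * q * (s : G × G).2 := h1
    calc y * q * y⁻¹ = (s : G × G).1 * ((s : G × G).2⁻¹ * q * (s : G × G).2) * (s : G × G).1⁻¹ := by
          rw [hy]; group
      _ = g * q * g⁻¹ := by rw [← h2]; group
  have hyN : y ∈ Subgroup.normalizer (Q : Set G) := by
    rw [Subgroup.mem_normalizer_iff_map_conj_eq] at hg ⊢
    ext z
    constructor
    · rintro ⟨w, hw, rfl⟩
      rw [← hg]
      exact ⟨w, hw, (hconj w hw).symm⟩
    · intro hz
      rw [← hg] at hz
      obtain ⟨w, hw, rfl⟩ := hz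
      exact ⟨w, hw, hconj w hw⟩
  -- an automorphism of `p`-regular and `p`-power order is trivial
  let gN : Subgroup.normalizer (Q : Set G) := ⟨g, hg⟩
  let yN : Subgroup.normalizer (Q : Set G) := ⟨y, hyN⟩
  have heq : Q.normalizerMonoidHom gN = Q.normalizerMonoidHom yN := by
    refine MulEquiv.ext fun q => Subtype.ext ?_
    exact (hconj q q.2).symm
  obtain ⟨j, hj⟩ : ∃ j : ℕ, orderOf y = p ^ j := by
    obtain ⟨j, hj⟩ := IsPGroup.iff_orderOf.mp P.isPGroup' ⟨y, hyP⟩
    exact ⟨j, by rwa [Subgroup.orderOf_mk] at hj⟩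
  have hone : Q.normalizerMonoidHom gN = 1 := by
    rw [← orderOf_eq_one_iff]
    have h1 : orderOf (Q.normalizerMonoidHom gN) ∣ orderOf g := by
      have := orderOf_map_dvd Q.normalizerMonoidHom gN
      rwa [Subgroup.orderOf_mk] at this
    have h2 : orderOf (Q.normalizerMonoidHom gN) ∣ p ^ j := by
      have := orderOf_map_dvd Q.normalizerMonoidHom yN
      rwa [Subgroup.orderOf_mk, hj, ← heq] at this
    exact Nat.eq_one_of_dvd_coprimes
      (((Fact.out : p.Prime).coprime_iff_not_dvd.mpr hreg).pow_left j).symm h1 h2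
  have := (Subgroup.normalizerMonoidHom_ker Q).le (MonoidHom.mem_ker.mpr hone)
  exact this

end Cfsg.Agent.Lib.MinSquare.Main
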